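import Mathlib.Algebra.Homology.Factorizations.CM5a
import Mathlib.Algebra.Homology.HomologySequence
import Mathlib.Algebra.Homology.HomologicalComplexLimits
import Mathlib.Algebra.Homology.HomologicalComplexAbelian
import Mathlib.Algebra.Homology.HomotopyCategory.KInjective
import Mathlib.CategoryTheory.Abelian.GrothendieckAxioms.Basic
import Mathlib.CategoryTheory.Abelian.FunctorCategory
import Mathlib.CategoryTheory.Limits.Constructions.LimitsOfProductsAndEqualizers
import Mathlib.CategoryTheory.Functor.OfSequence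
import Groth.Agent.S0489

set_option autoImplicit false
universe v u
open CategoryTheory CategoryTheory.Limits Opposite HomologicalComplex

/-! K-injective resolutions when countable products are exact. -/

namespace Groth.Agent.ProdRes7

variable {A : Type u} [Category.{v} A] [Abelian A]

noncomputable section

theorem tower_solve (N : ℕ) : ∀ (H : ℕ → A) (h : ∀ k, H (k + 1) ⟶ H k), (∀ k, N ≤ k → IsIso (h k)) →
    ∀ {T : A} (a : ∀ k, T ⟶ H k), ∃ s : ∀ k, T ⟶ H k, ∀ k, s k - s (k + 1) ≫ h k = a k := by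
  induction N with
  | zero =>
    intro H h hiso T a
    have := fun k => hiso k (Nat.zero_le k)
    let s : ∀ k, T ⟶ H k := fun k => Nat.rec 0 (fun k sk => (sk - a k) ≫ inv (h k)) k
    refine ⟨s, fun k => ?_⟩
    show s k - ((s k - a k) ≫ inv (h k)) ≫ h k = a k
    rw [Category.assoc, IsIso.inv_hom_id, Category.comp_id, sub_sub_cancel]
  | succ N ih =>
    intro H h hiso T a
    obtain ⟨s, hs⟩ := ih (fun k => H (k + 1)) (fun k => h (k + 1)) (fun k hk => hiso (k + 1) (by omega))
      (fun k => a (k + 1))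
    refine ⟨fun k => match k with
      | 0 => a 0 + s 0 ≫ h 0
      | k + 1 => s k, fun k => ?_⟩
    cases k with
    | zero => exact add_sub_cancel_right _ _
    | succ k => exact hs k

theorem tower_extend (N : ℕ) : ∀ (H : ℕ → A) (h : ∀ k, H (k + 1) ⟶ H k), (∀ k, N ≤ k → IsIso (h k)) →
    ∀ {T : A} (x : T ⟶ H N), ∃ s : ∀ k, T ⟶ H k, s N = x ∧ ∀ k, s (k + 1) ≫ h k = s k := by
  induction N with
  | zero =>
    intro H h hiso T x
    have := fun k => hiso k (Nat.zero_le k)
    let s : ∀ k, T ⟶ H k := fun k => Nat.rec x (fun k sk => sk ≫ inv (h k)) k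
    refine ⟨s, rfl, fun k => ?_⟩
    show (s k ≫ inv (h k)) ≫ h k = s k
    rw [Category.assoc, IsIso.inv_hom_id, Category.comp_id]
  | succ N ih =>
    intro H h hiso T x
    obtain ⟨s, hx, hs⟩ := ih (fun k => H (k + 1)) (fun k => h (k + 1)) (fun k hk => hiso (k + 1) (by omega)) x
    refine ⟨fun k => match k with
      | 0 => s 0 ≫ h 0
      | k + 1 => s k, hx, fun k => ?_⟩
    cases k with
    | zero => rfl
    | succ k => exact hs k

theorem tower_zero (N : ℕ) : ∀ (H : ℕ → A) (h : ∀ k, H (k + 1) ⟶ H k), (∀ k, N ≤ k → IsIso (h k)) →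
    ∀ {T : A} (s : ∀ k, T ⟶ H k), s N = 0 → (∀ k, s (k + 1) ≫ h k = s k) → ∀ k, s k = 0 := by
  induction N with
  | zero =>
    intro H h hiso T s h0 hs k
    have := fun k => hiso k (Nat.zero_le k)
    induction k with
    | zero => exact h0
    | succ k hk => rw [← cancel_mono (h k), hs, hk, zero_comp]
  | succ N ih =>
    intro H h hiso T s h0 hs k
    have key := ih (fun k => H (k + 1)) (fun k => h (k + 1)) (fun k hk => hiso (k + 1) (by omega))
      (fun k => s (k + 1)) h0 (fun k => hs (k + 1))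
    cases k with
    | zero => rw [← hs 0, key 0, zero_comp]
    | succ k => exact key k

variable [HasLimitsOfShape (Discrete ℕ) A]

/-- limits of sequences exist -/
theorem hasLimits_seq : HasLimitsOfShape ℕᵒᵖ A := by
  have key : ∀ (T : Type) [Countable T] [Infinite T], HasLimitsOfShape (Discrete T) A := fun T _ _ =>
    hasLimitsOfShape_of_equivalence
      (Discrete.equivalence (nonempty_equiv_of_countable (α := ℕ) (β := T)).some)
  have hinf : Infinite (Σ p : ℕᵒᵖ × ℕᵒᵖ, p.1 ⟶ p.2) :=
    Infinite.of_injective (fun n : ℕ => (⟨(op n, op n), 𝟙 _⟩ : Σ p : ℕᵒᵖ × ℕᵒᵖ, p.1 ⟶ p.2))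
      fun a b h => by simpa using congrArg (fun z => z.1.1) h
  have hcnt : Countable ℕᵒᵖ := Function.Injective.countable (f := Opposite.unop) Opposite.unop_injective
  have hinf' : Infinite ℕᵒᵖ := Infinite.of_injective Opposite.op Opposite.op_injective
  have hsub : ∀ p : ℕᵒᵖ × ℕᵒᵖ, Countable (p.1 ⟶ p.2) := fun p =>
    Function.Injective.countable (f := fun _ => ()) fun a b _ => Subsingleton.elim _ _
  have := key ℕᵒᵖ
  have := key (Σ p : ℕᵒᵖ × ℕᵒᵖ, p.1 ⟶ p.2)
  exact { has_limit := fun F => hasLimit_of_equalizer_and_product F }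

variable (Is : ℕ → CochainComplex A ℤ)

/-- the family, as a complex of families -/
def famCx : CochainComplex (Discrete ℕ ⥤ A) ℤ where
  X i := Discrete.functor fun n => (Is n).X i
  d i j := Discrete.natTrans fun n => (Is n.as).d i j
  shape i j hij := by ext n; exact (Is n.as).shape i j hij
  d_comp_d' i j k _ _ := by ext n; exact (Is n.as).d_comp_d i j k

/-- the product of the family -/
def prodCx : CochainComplex A ℤ :=
  ((lim (J := Discrete ℕ) (C := A)).mapHomologicalComplex (ComplexShape.up ℤ)).obj (famCx Is)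

def evalNat (n : ℕ) : (lim (J := Discrete ℕ) (C := A)) ⟶ (evaluation (Discrete ℕ) A).obj ⟨n⟩ where
  app F := limit.π F ⟨n⟩
  naturality F G φ := limMap_π φ ⟨n⟩

def proj (n : ℕ) : prodCx Is ⟶ Is n where
  f i := limit.π (Discrete.functor fun m => (Is m).X i) ⟨n⟩
  comm' i j _ := (limMap_π ((famCx Is).d i j) (⟨n⟩ : Discrete ℕ)).symm

variable {Is}

theorem proj_hom_ext_f {i : ℤ} {T : A} {a b : T ⟶ (prodCx Is).X i}
    (h : ∀ n, a ≫ (proj Is n).f i = b ≫ (proj Is n).f i) : a = b :=
  limit.hom_ext fun ⟨n⟩ => h n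

theorem proj_hom_ext {W : CochainComplex A ℤ} {a b : W ⟶ prodCx Is}
    (h : ∀ n, a ≫ proj Is n = b ≫ proj Is n) : a = b :=
  HomologicalComplex.hom_ext _ _ fun i => proj_hom_ext_f fun n => congrArg (fun φ => φ.f i) (h n)

def liftF {T : A} {i : ℤ} (φ : ∀ n, T ⟶ (Is n).X i) : T ⟶ (prodCx Is).X i :=
  limit.lift (Discrete.functor fun m => (Is m).X i) (Fan.mk T φ)

@[reassoc (attr := simp)]
theorem liftF_proj {T : A} {i : ℤ} (φ : ∀ n, T ⟶ (Is n).X i) (n : ℕ) : liftF φ ≫ (proj Is n).f i = φ n :=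
  limit.lift_π _ _

def liftC {W : CochainComplex A ℤ} (φ : ∀ n, W ⟶ Is n) : W ⟶ prodCx Is where
  f i := liftF fun n => (φ n).f i
  comm' i j _ := proj_hom_ext_f fun n => by
    rw [Category.assoc, Category.assoc, ← (proj Is n).comm, liftF_proj_assoc, liftF_proj, (φ n).comm]

@[reassoc (attr := simp)]
theorem liftC_proj {W : CochainComplex A ℤ} (φ : ∀ n, W ⟶ Is n) (n : ℕ) : liftC φ ≫ proj Is n = φ n :=
  HomologicalComplex.hom_ext _ _ fun _ => liftF_proj _ _

variable [HasExactLimitsOfShape (Discrete ℕ) A]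

/-- products commute with homology -/
theorem exists_unique_homology (i : ℤ) {T : A} (a : ∀ n, T ⟶ (Is n).homology i) :
    ∃! x : T ⟶ (prodCx Is).homology i, ∀ n, x ≫ homologyMap (proj Is n) i = a n := by
  have : (lim (J := Discrete ℕ) (C := A)).Additive := Functor.additive_of_preserves_binary_products _
  have : PreservesFiniteColimits (lim (J := Discrete ℕ) (C := A)) :=
    HasExactLimitsOfShape.preservesFiniteColimits
  have : PreservesFiniteLimits (lim (J := Discrete ℕ) (C := A)) := inferInstance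
  have : (lim (J := Discrete ℕ) (C := A)).PreservesHomology := inferInstance
  have : ∀ n : ℕ, ((evaluation (Discrete ℕ) A).obj ⟨n⟩).PreservesHomology := fun n => inferInstance
  let S' := (famCx Is).sc i
  let e : (prodCx Is).homology i ≅ limit S'.homology := S'.mapHomologyIso lim
  let c : ∀ n : ℕ, S'.homology.obj ⟨n⟩ ≅ (Is n).homology i := fun n =>
    (S'.mapHomologyIso ((evaluation (Discrete ℕ) A).obj ⟨n⟩)).symm
  have key : ∀ n, homologyMap (proj Is n) i = e.hom ≫ limit.π S'.homology ⟨n⟩ ≫ (c n).hom := by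
    intro n
    have h := NatTrans.app_homology (evalNat n) S'
    change limit.π S'.homology ⟨n⟩ = _ at h
    rw [h]
    simp only [e, c, Iso.symm_hom, Category.assoc]
    erw [Iso.hom_inv_id_assoc, Iso.hom_inv_id]
    erw [Category.comp_id]
    rfl
  refine ⟨limit.lift S'.homology ⟨T, Discrete.natTrans fun n => a n.as ≫ (c n.as).inv⟩ ≫ e.inv,
    fun n => ?_, fun x hx => ?_⟩
  · rw [key, Category.assoc, Iso.inv_hom_id_assoc, limit.lift_π_assoc]
    simp
  · rw [Iso.eq_comp_inv]
    refine limit.hom_ext fun ⟨n⟩ => ?_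
    rw [limit.lift_π]
    show _ = a n ≫ (c n).inv
    rw [← hx n, key]
    simp only [Category.assoc, Iso.hom_inv_id, Category.comp_id]

/-- one step of the tower -/
theorem exists_step [EnoughInjectives A] (K : CochainComplex A ℤ) (k : ℤ) (I : CochainComplex A ℤ)
    [I.IsStrictlyGE (k - 1)] (hI : ∀ m, Injective (I.X m)) (f : K ⟶ I) :
    ∃ (I' : CochainComplex A ℤ) (f' : K ⟶ I') (q : I' ⟶ I), I'.IsStrictlyGE (k - 1 - 1) ∧
      (∀ m, Injective (I'.X m)) ∧ (∀ m, IsSplitEpi (q.f m)) ∧ f' ≫ q = f ∧ ∀ i, k - 1 ≤ i → QuasiIsoAt f' i := by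
  haveI : IsIso (I.πTruncGE (k - 1)) := inferInstance
  let g : K.truncGE (k - 1) ⟶ I := CochainComplex.truncGEMap f (k - 1) ≫ inv (I.πTruncGE (k - 1))
  haveI : (K.truncGE (k - 1)).IsStrictlyGE (k - 1 - 1 + 1) := by rw [sub_add_cancel]; infer_instance
  haveI : I.IsStrictlyGE (k - 1 - 1) := I.isStrictlyGE_of_ge _ (k - 1) (by omega)
  obtain ⟨I', hI', ι, p, _, hι, hp, hfac⟩ :=
    CochainComplex.Plus.modelCategoryQuillen.cm5a g (k - 1 - 1)
  refine ⟨I', K.πTruncGE (k - 1) ≫ ι, p, hI', fun m => ?_, fun m => ?_, ?_, fun i hi => ?_⟩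
  · obtain ⟨J, _, a, w, ⟨σ⟩⟩ := (Abelian.epiWithInjectiveKernel_iff (p.f m)).1 (hp m)
    haveI := hI m
    exact Injective.of_iso σ.isoBinaryBiproduct.symm inferInstance
  · obtain ⟨J, _, a, w, ⟨σ⟩⟩ := (Abelian.epiWithInjectiveKernel_iff (p.f m)).1 (hp m)
    exact ⟨⟨σ.s, σ.s_g⟩⟩
  · rw [Category.assoc, hfac, CochainComplex.πTruncGE_naturality_assoc, IsIso.hom_inv_id, Category.comp_id]
  · haveI := CochainComplex.quasiIsoAt_πTruncGE K (k - 1) i hi
    infer_instance

/-- a stage of the tower -/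
structure Stage (K : CochainComplex A ℤ) (k : ℕ) where
  I : CochainComplex A ℤ
  f : K ⟶ I
  ge : I.IsStrictlyGE (-(k : ℤ) - 1)
  inj : ∀ m, Injective (I.X m)
  qis : ∀ i, -(k : ℤ) ≤ i → QuasiIsoAt f i

theorem exists_next [EnoughInjectives A] {K : CochainComplex A ℤ} {k : ℕ} (S : Stage K k) :
    ∃ (S' : Stage K (k + 1)) (q : S'.I ⟶ S.I), (∀ m, IsSplitEpi (q.f m)) ∧ S'.f ≫ q = S.f := by
  haveI := S.ge
  obtain ⟨I', f', q, h1, h2, h3, h4, h5⟩ := exists_step K (-(k : ℤ)) S.I S.inj S.f
  refine ⟨⟨I', f', ?_, h2, fun i hi => h5 i (by omega)⟩, q, h3, h4⟩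
  exact @CochainComplex.isStrictlyGE_of_ge _ _ _ I' (-((k + 1 : ℕ) : ℤ) - 1) (-(k : ℤ) - 1 - 1) (by omega) h1

theorem exists_tower [EnoughInjectives A] (K : CochainComplex A ℤ) :
    ∃ (S : ∀ k, Stage K k) (q : ∀ k, (S (k + 1)).I ⟶ (S k).I),
      (∀ k m, IsSplitEpi ((q k).f m)) ∧ ∀ k, (S (k + 1)).f ≫ q k = (S k).f := by
  obtain ⟨L, i, hi, hL, hLge⟩ :=
    CochainComplex.Plus.modelCategoryQuillen.exists_quasiIso_injective (K.truncGE 0) 0
  let S0 : Stage K 0 := ⟨L, K.πTruncGE 0 ≫ i,
    @CochainComplex.isStrictlyGE_of_ge _ _ _ L (-((0 : ℕ) : ℤ) - 1) 0 (by omega) hLge, hL,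
    fun j hj => by
      haveI := CochainComplex.quasiIsoAt_πTruncGE K 0 j (by omega)
      infer_instance⟩
  choose next qn hsplit hcomp using fun (k : ℕ) (S : Stage K k) => exists_next S
  let S : ∀ k, Stage K k := fun k => Nat.rec S0 next k
  exact ⟨S, fun k => qn k (S k), fun k => hsplit k (S k), fun k => hcomp k (S k)⟩

theorem result [EnoughInjectives A] (K : CochainComplex A ℤ) :
    ∃ (I : CochainComplex A ℤ) (f : K ⟶ I), I.IsKInjective ∧ QuasiIso f := by
  haveI : HasLimitsOfShape ℕᵒᵖ A := hasLimits_seq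
  obtain ⟨S, q, hsplit, hcomp⟩ := exists_tower K
  let Is : ℕ → CochainComplex A ℤ := fun k => (S k).I
  let F : ℕᵒᵖ ⥤ CochainComplex A ℤ := Functor.ofOpSequence (X := Is) q
  have hFq : ∀ k, F.map (homOfLE (Nat.le_succ k)).op = q k := fun k => Functor.ofOpSequence_map_homOfLE_succ (X := Is) q k
  let I := limit F
  let f : K ⟶ I := limit.lift F ⟨K, NatTrans.ofOpSequence (fun k => (S k).f) fun k => by
    refine (Category.id_comp _).trans ?_
    rw [hFq k]; exact (hcomp k).symm⟩
  refine ⟨I, f, ?_, ?_⟩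
  · refine Groth.Agent.S0489.result F (fun k => ?_) fun k m => by rw [hFq k]; exact hsplit k m
    haveI := (S k).ge
    haveI := (S k).inj
    exact CochainComplex.isKInjective_of_injective (S k).I (-(k : ℤ) - 1)
  let πI : ∀ k, I ⟶ Is k := fun k => limit.π F (op k)
  let j : I ⟶ prodCx Is := liftC fun k => πI k
  let Φ : prodCx Is ⟶ prodCx Is := liftC fun k => proj Is k - proj Is (k + 1) ≫ q k
  have hw : ∀ k, πI (k + 1) ≫ q k = πI k := fun k => by
    rw [← hFq k]; exact limit.w F (homOfLE (Nat.le_succ k)).op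
  have hjΦ : j ≫ Φ = 0 := proj_hom_ext fun k => by
    rw [Category.assoc, liftC_proj, Preadditive.comp_sub, liftC_proj, liftC_proj_assoc, hw, sub_self, zero_comp]
  let T : ShortComplex (CochainComplex A ℤ) := ShortComplex.mk j Φ hjΦ
  have hlim : ∀ m : ℤ, IsLimit ((eval A (ComplexShape.up ℤ) m).mapCone (limit.cone F)) := fun m =>
    isLimitOfPreserves _ (limit.isLimit F)
  have hses : ∀ m : ℤ, (T.map (eval A (ComplexShape.up ℤ) m)).ShortExact := by
    intro m
    haveI hmono : Mono (j.f m) := ⟨fun {W} a b hab => (hlim m).hom_ext fun ⟨k⟩ => by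
      have h := congrArg (· ≫ (proj Is k).f m) hab
      simp only [Category.assoc] at h
      have hjk : j.f m ≫ (proj Is k).f m = (πI k).f m := liftF_proj _ _
      rw [hjk] at h
      exact h⟩
    haveI hepi : Epi (Φ.f m) := by
      let s : ∀ k, (prodCx Is).X m ⟶ (Is k).X m := fun k =>
        Nat.rec (motive := fun k => (prodCx Is).X m ⟶ (Is k).X m) 0
          (fun k sk => (sk - (proj Is k).f m) ≫ @section_ _ _ _ _ ((q k).f m) (hsplit k m)) k
      haveI : IsSplitEpi (Φ.f m) := ⟨⟨liftF s, proj_hom_ext_f fun k => by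
        have hΦk : Φ.f m ≫ (proj Is k).f m = (proj Is k - proj Is (k + 1) ≫ q k).f m := liftF_proj _ _
        rw [Category.assoc, hΦk, Category.id_comp, sub_f_apply, comp_f, Preadditive.comp_sub,
          liftF_proj, liftF_proj_assoc]
        show s k - ((s k - (proj Is k).f m) ≫ _) ≫ (q k).f m = _
        rw [Category.assoc, IsSplitEpi.id, Category.comp_id, sub_sub_cancel]⟩⟩
      infer_instance
    haveI : Mono (T.map (eval A (ComplexShape.up ℤ) m)).f := hmono
    refine { exact := ShortComplex.exact_of_f_is_kernel _ ?_, mono_f := hmono, epi_g := hepi }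
    have hcompat : ∀ {W : A} (a : W ⟶ (prodCx Is).X m), a ≫ Φ.f m = 0 → ∀ k,
        (a ≫ (proj Is (k + 1)).f m) ≫ (q k).f m = a ≫ (proj Is k).f m := by
      intro W a ha k
      have h := congrArg (· ≫ (proj Is k).f m) ha
      have hΦk : Φ.f m ≫ (proj Is k).f m = (proj Is k - proj Is (k + 1) ≫ q k).f m := liftF_proj _ _
      simp only [Category.assoc, zero_comp, hΦk] at h
      rw [sub_f_apply, comp_f, Preadditive.comp_sub, sub_eq_zero] at h
      rw [Category.assoc]; exact h.symm
    refine KernelFork.IsLimit.ofι' _ _ fun {W} a ha => ⟨(hlim m).lift ⟨W, NatTrans.ofOpSequence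
      (fun k => a ≫ (proj Is k).f m) (fun k => by
        refine (Category.id_comp _).trans ?_
        rw [show (F ⋙ eval A (ComplexShape.up ℤ) m).map (homOfLE (Nat.le_succ k)).op = (q k).f m from
          congrArg (fun φ => φ.f m) (hFq k)]
        exact (hcompat a ha k).symm)⟩, proj_hom_ext_f fun k => ?_⟩
    have hjk : j.f m ≫ (proj Is k).f m = (πI k).f m := liftF_proj _ _
    refine (Category.assoc _ _ _).trans ?_
    refine (congrArg (_ ≫ ·) hjk).trans ?_
    exact (hlim m).fac _ (op k)
  have hT : T.ShortExact := HomologicalComplex.shortExact_of_degreewise_shortExact T hses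
  refine ⟨fun i => ?_⟩
  have qisq : ∀ (i' : ℤ) (k : ℕ), -(k : ℤ) ≤ i' → IsIso (homologyMap (q k) i') := by
    intro i' k hk
    haveI := (S k).qis i' hk
    haveI := (S (k + 1)).qis i' (by omega)
    haveI : IsIso (homologyMap (S k).f i') := (quasiIsoAt_iff_isIso_homologyMap _ _).1 inferInstance
    haveI : IsIso (homologyMap (S (k + 1)).f i') := (quasiIsoAt_iff_isIso_homologyMap _ _).1 inferInstance
    haveI : IsIso (homologyMap (S (k + 1)).f i' ≫ homologyMap (q k) i') := by
      rw [← homologyMap_comp, hcomp k]; infer_instance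
    exact IsIso.of_isIso_comp_left (homologyMap (S (k + 1)).f i') _
  have hΦp : ∀ (i' : ℤ) (k : ℕ), homologyMap Φ i' ≫ homologyMap (proj Is k) i' =
      homologyMap (proj Is k) i' - homologyMap (proj Is (k + 1)) i' ≫ homologyMap (q k) i' := fun i' k => by
    rw [← homologyMap_comp, liftC_proj, homologyMap_sub, homologyMap_comp]
  have hepiΦ : ∀ i' : ℤ, Epi (homologyMap Φ i') := by
    intro i'
    obtain ⟨s, hs⟩ := tower_solve (i'.natAbs) (fun k => (Is k).homology i') (fun k => homologyMap (q k) i')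
      (fun k hk => qisq i' k (by omega)) (fun k => homologyMap (proj Is k) i')
    obtain ⟨x, hx, -⟩ := exists_unique_homology (Is := Is) i' s
    obtain ⟨z, -, huniq⟩ := exists_unique_homology (Is := Is) i' (fun k => homologyMap (proj Is k) i')
    haveI : IsSplitEpi (homologyMap Φ i') := ⟨⟨x, (huniq _ fun k => by
      rw [Category.assoc, hΦp, Preadditive.comp_sub, hx k, ← Category.assoc, hx (k + 1)]
      exact hs k).trans (huniq _ fun k => Category.id_comp _).symm⟩⟩
    infer_instance
  haveI hmonoj : Mono (homologyMap j i) := by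
    have hex := hT.homology_exact₁ (i - 1) i (by simp)
    have h3 := hT.comp_δ (i - 1) i (by simp)
    haveI := hepiΦ (i - 1)
    have hδ : hT.δ (i - 1) i (by simp) = 0 := by rw [← cancel_epi (homologyMap Φ (i - 1)), h3, comp_zero]
    exact hex.mono_g hδ
  let N := i.natAbs
  haveI : IsIso (homologyMap (πI N) i) := by
    have hiso : ∀ k, N ≤ k → IsIso (homologyMap (q k) i) := fun k hk => qisq i k (by omega)
    have hcomm : ∀ {W : A} (a : W ⟶ I.homology i) (k : ℕ),
        (a ≫ homologyMap (πI (k + 1)) i) ≫ homologyMap (q k) i =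
          a ≫ homologyMap (πI k) i := fun a k => by
      rw [Category.assoc, ← homologyMap_comp, hw]
    haveI : Mono (homologyMap (πI N) i) := Preadditive.mono_of_cancel_zero _ fun {W} a ha => by
      have hall := tower_zero N (fun k => (Is k).homology i) (fun k => homologyMap (q k) i) hiso
        (fun k => a ≫ homologyMap (πI k) i) ha (fun k => hcomm a k)
      rw [← cancel_mono (homologyMap j i), zero_comp]
      obtain ⟨z, -, huniq⟩ := exists_unique_homology (Is := Is) i (fun k => (0 : W ⟶ (Is k).homology i))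
      refine (huniq _ fun k => ?_).trans (huniq _ fun k => zero_comp).symm
      rw [Category.assoc, ← homologyMap_comp, liftC_proj]
      exact hall k
    haveI : IsSplitEpi (homologyMap (πI N) i) := by
      obtain ⟨s, hsN, hs⟩ := tower_extend N (fun k => (Is k).homology i) (fun k => homologyMap (q k) i) hiso
        (𝟙 ((Is N).homology i))
      obtain ⟨x, hx, -⟩ := exists_unique_homology (Is := Is) i s
      obtain ⟨z, -, huniq⟩ := exists_unique_homology (Is := Is) i
        (fun k => (0 : (Is N).homology i ⟶ (Is k).homology i))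
      have hxΦ : x ≫ homologyMap Φ i = 0 :=
        (huniq _ fun k => by
          rw [Category.assoc, hΦp, Preadditive.comp_sub, hx k, ← Category.assoc, hx (k + 1), hs k, sub_self]).trans
          (huniq _ fun k => zero_comp).symm
      haveI : Mono (ShortComplex.mk (homologyMap j i) (homologyMap Φ i)
          (by rw [← homologyMap_comp, hjΦ, homologyMap_zero])).f := hmonoj
      refine ⟨⟨(hT.homology_exact₂ i).lift x hxΦ, ?_⟩⟩
      have h := congrArg (· ≫ homologyMap (proj Is N) i) ((hT.homology_exact₂ i).lift_f x hxΦ)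
      simp only [Category.assoc] at h
      erw [← homologyMap_comp] at h
      rw [liftC_proj, hx N, hsN] at h
      exact h
    exact isIso_of_mono_of_epi _
  rw [quasiIsoAt_iff_isIso_homologyMap]
  haveI := (S N).qis i (by omega)
  haveI : IsIso (homologyMap f i ≫ homologyMap (πI N) i) := by
    rw [← homologyMap_comp, show f ≫ πI N = (S N).f from limit.lift_π _ _]
    exact (quasiIsoAt_iff_isIso_homologyMap _ _).1 this
  exact IsIso.of_isIso_comp_right _ (homologyMap (πI N) i)

end

end Groth.Agent.ProdRes7
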